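import Mathlib.AlgebraicGeometry.Morphisms.SchemeTheoreticallyDominant
import Mathlib.AlgebraicGeometry.Morphisms.ClosedImmersion
import Mathlib.AlgebraicGeometry.Morphisms.Separated
import Mathlib.CategoryTheory.Comma.Over.Pullback

/-!
# Extension along scheme-theoretically dominant morphisms; base change of mapping properties
-/

universe u

open CategoryTheory Limits AlgebraicGeometry

namespace GrothLib.SchDense

variable {W X Y Z : Scheme.{u}}

/-- A closed immersion through which a scheme-theoretically dominant morphism factors is an iso. -/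
theorem isIso_of_factor {E : Scheme.{u}} (e : E ⟶ X) [IsClosedImmersion e] (ι : W ⟶ X)
    [IsSchemeTheoreticallyDominant ι] (l : W ⟶ E) (h : l ≫ e = ι) : IsIso e := by
  rw [IsClosedImmersion.isIso_iff_ker_eq_bot, eq_bot_iff, ← ι.ker_eq_bot, ← h]
  exact Scheme.Hom.le_ker_comp l e

/-- Morphisms to a separated scheme agreeing on a scheme-theoretically dominant morphism agree. -/
theorem ext_of_schDominant (s : Y ⟶ Z) [IsSeparated s] {f g : X ⟶ Y} (h : f ≫ s = g ≫ s)
    (ι : W ⟶ X) [IsSchemeTheoreticallyDominant ι] (hU : ι ≫ f = ι ≫ g) : f = g := by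
  let X' : Over Z := Over.mk (f ≫ s)
  let Y' : Over Z := Over.mk s
  let f' : X' ⟶ Y' := Over.homMk f
  let g' : X' ⟶ Y' := Over.homMk g h.symm
  let ι' : Over.mk (ι ≫ f ≫ s) ⟶ X' := Over.homMk ι
  have : IsSeparated Y'.hom := ‹_›
  have hι : ι' ≫ f' = ι' ≫ g' := Over.OverMorphism.ext hU
  have := isIso_of_factor (equalizer.ι f' g').left ι (equalizer.lift ι' hι).left
    (by rw [← Over.comp_left, equalizer.lift_ι]; rfl)
  rw [← cancel_epi (equalizer.ι f' g').left]
  exact congr($(equalizer.condition f' g').left)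

/-- A morphism factors through a closed immersion if it does so on a scheme-theoretically dominant
morphism. -/
theorem exists_lift_of_schDominant (i : Z ⟶ Y) [IsClosedImmersion i] (F : X ⟶ Y) (ι : W ⟶ X)
    [IsSchemeTheoreticallyDominant ι] (l : W ⟶ Z) (h : l ≫ i = ι ≫ F) :
    ∃ F' : X ⟶ Z, F' ≫ i = F := by
  have := isIso_of_factor (pullback.fst F i) ι (pullback.lift ι l h.symm) (pullback.lift_fst _ _ _)
  exact ⟨inv (pullback.fst F i) ≫ pullback.snd F i, by
    rw [Category.assoc, ← pullback.condition, IsIso.inv_hom_id_assoc]⟩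

variable {S S' U U' : Scheme.{u}} {g : S' ⟶ S} {j : U ⟶ S} {j' : U' ⟶ S'} {k : U' ⟶ U}

theorem injective_baseChange (sq : IsPullback j' k g j) {N : Over S} {Y' : Over S'}
    (h : Function.Injective (fun f : Over.mk (Y'.hom ≫ g) ⟶ N => (Over.pullback j).map f)) :
    Function.Injective (fun f : Y' ⟶ (Over.pullback g).obj N => (Over.pullback j').map f) := by
  intro f₁ f₂ hf
  have hf' := congrArg Over.Hom.left hf
  let lc : ∀ f : Y' ⟶ (Over.pullback g).obj N, Over.mk (Y'.hom ≫ g) ⟶ N := fun f =>
    Over.homMk (f.left ≫ pullback.fst N.hom g) (by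
      simp only [Category.assoc, pullback.condition]
      exact congrArg (· ≫ g) (Over.w f))
  let θ : pullback (Y'.hom ≫ g) j ⟶ pullback Y'.hom j' :=
    pullback.lift (pullback.fst _ _)
      (sq.lift (pullback.fst _ _ ≫ Y'.hom) (pullback.snd _ _) (by rw [Category.assoc, pullback.condition]))
      (sq.lift_fst _ _ _).symm
  have key : ∀ f, ((Over.pullback j).map (lc f)).left ≫ pullback.fst N.hom j =
      θ ≫ ((Over.pullback j').map f).left ≫ pullback.fst _ j' ≫ pullback.fst N.hom g := fun f => by
    have e1 : ((Over.pullback j).map (lc f)).left ≫ pullback.fst N.hom j =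
        pullback.fst (Y'.hom ≫ g) j ≫ f.left ≫ pullback.fst N.hom g := pullback.lift_fst _ _ _
    have e2 : ((Over.pullback j').map f).left ≫ pullback.fst _ j' = pullback.fst Y'.hom j' ≫ f.left :=
      pullback.lift_fst _ _ _
    have e3 : θ ≫ pullback.fst Y'.hom j' = pullback.fst (Y'.hom ≫ g) j := pullback.lift_fst _ _ _
    rw [e1, reassoc_of% e2, reassoc_of% e3]
  have hlc : lc f₁ = lc f₂ := by
    refine h (Over.OverMorphism.ext (pullback.hom_ext ?_ ?_))
    · exact (key f₁).trans ((congrArg (fun z => θ ≫ z ≫ pullback.fst _ j' ≫ pullback.fst N.hom g) hf').trans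
        (key f₂).symm)
    · exact (Over.w ((Over.pullback j).map (lc f₁))).trans (Over.w ((Over.pullback j).map (lc f₂))).symm
  exact Over.OverMorphism.ext (pullback.hom_ext (congrArg Over.Hom.left hlc) ((Over.w f₁).trans (Over.w f₂).symm))

theorem surjective_baseChange (sq : IsPullback j' k g j) {N : Over S} {Y' : Over S'}
    (h : Function.Surjective (fun f : Over.mk (Y'.hom ≫ g) ⟶ N => (Over.pullback j).map f)) :
    Function.Surjective (fun f : Y' ⟶ (Over.pullback g).obj N => (Over.pullback j').map f) := by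
  intro φ
  let θ : pullback (Y'.hom ≫ g) j ⟶ pullback Y'.hom j' :=
    pullback.lift (pullback.fst _ _)
      (sq.lift (pullback.fst _ _ ≫ Y'.hom) (pullback.snd _ _) (by rw [Category.assoc, pullback.condition]))
      (sq.lift_fst _ _ _).symm
  let θ' : pullback Y'.hom j' ⟶ pullback (Y'.hom ≫ g) j :=
    pullback.lift (pullback.fst _ _) (pullback.snd _ _ ≫ k)
      (by rw [pullback.condition_assoc, sq.w, Category.assoc])
  have t1 : θ ≫ pullback.fst Y'.hom j' = pullback.fst (Y'.hom ≫ g) j := pullback.lift_fst _ _ _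
  have t2 : θ ≫ pullback.snd Y'.hom j' = sq.lift (pullback.fst _ _ ≫ Y'.hom) (pullback.snd _ _)
      (by rw [Category.assoc, pullback.condition]) := pullback.lift_snd _ _ _
  have t1' : θ' ≫ pullback.fst (Y'.hom ≫ g) j = pullback.fst Y'.hom j' := pullback.lift_fst _ _ _
  have t2' : θ' ≫ pullback.snd (Y'.hom ≫ g) j = pullback.snd Y'.hom j' ≫ k := pullback.lift_snd _ _ _
  have hθ : θ' ≫ θ = 𝟙 _ := by
    apply pullback.hom_ext
    · rw [Category.assoc, t1, t1', Category.id_comp]
    · apply sq.hom_ext
      · simp only [Category.assoc, Category.id_comp, reassoc_of% t2, sq.lift_fst, reassoc_of% t1', pullback.condition]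
      · simp only [Category.assoc, Category.id_comp, reassoc_of% t2, sq.lift_snd, t2']
  have hφw : φ.left ≫ pullback.snd _ j' = pullback.snd Y'.hom j' := Over.w φ
  have hθk : θ ≫ pullback.snd Y'.hom j' ≫ k = pullback.snd (Y'.hom ≫ g) j := by
    rw [reassoc_of% t2, sq.lift_snd]
  let Φ : (Over.pullback j).obj (Over.mk (Y'.hom ≫ g)) ⟶ (Over.pullback j).obj N :=
    Over.homMk (pullback.lift (θ ≫ φ.left ≫ pullback.fst _ j' ≫ pullback.fst N.hom g) (pullback.snd _ _) (by
      have e : φ.left ≫ pullback.fst _ j' ≫ pullback.snd N.hom g = pullback.snd Y'.hom j' ≫ j' := by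
        rw [← hφw, Category.assoc]
        congr 1
        exact pullback.condition
      simp only [Category.assoc, pullback.condition (f := N.hom) (g := g)]
      rw [reassoc_of% e, sq.w, reassoc_of% hθk]
      rfl))
      (pullback.lift_snd _ _ _)
  obtain ⟨F, hF⟩ := h Φ
  have hF' : pullback.fst (Y'.hom ≫ g) j ≫ F.left =
      θ ≫ φ.left ≫ pullback.fst _ j' ≫ pullback.fst N.hom g := by
    have e1 : ((Over.pullback j).map F).left ≫ pullback.fst N.hom j = pullback.fst (Y'.hom ≫ g) j ≫ F.left :=
      pullback.lift_fst _ _ _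
    have e2 : Φ.left ≫ pullback.fst N.hom j = θ ≫ φ.left ≫ pullback.fst _ j' ≫ pullback.fst N.hom g :=
      pullback.lift_fst _ _ _
    rw [← e1, ← e2]
    exact congrArg (fun z : ((Over.pullback j).obj (Over.mk (Y'.hom ≫ g)) ⟶ (Over.pullback j).obj N) =>
      z.left ≫ pullback.fst N.hom j) hF
  let f : Y' ⟶ (Over.pullback g).obj N :=
    Over.homMk (pullback.lift F.left Y'.hom (Over.w F)) (pullback.lift_snd _ _ _)
  refine ⟨f, Over.OverMorphism.ext (pullback.hom_ext ?_ ?_)⟩
  · have e0 : ((Over.pullback j').map f).left ≫ pullback.fst _ j' = pullback.fst Y'.hom j' ≫ f.left :=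
      pullback.lift_fst _ _ _
    refine e0.trans (pullback.hom_ext ?_ ?_)
    · have e1 : f.left ≫ pullback.fst N.hom g = F.left := pullback.lift_fst _ _ _
      rw [Category.assoc, e1, Category.assoc, ← t1', Category.assoc, hF', reassoc_of% hθ]
    · have e1 : f.left ≫ pullback.snd N.hom g = Y'.hom := pullback.lift_snd _ _ _
      rw [Category.assoc, e1, Category.assoc, pullback.condition, ← hφw, Category.assoc]
      congr 1
      exact pullback.condition.symm
  · exact (Over.w _).trans (Over.w φ).symm

end GrothLib.SchDense
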