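import Groth.Prelude.Def_CInt
import Groth.Agent.Lib.SchDense.Basic
import Mathlib.AlgebraicGeometry.AffineScheme
import Mathlib.AlgebraicGeometry.Restrict

/-!
Schematically dense open subschemes: dominance of the inclusion, basic opens of regular sections.
-/

universe u

open CategoryTheory CategoryTheory.Limits AlgebraicGeometry

namespace GrothLib.SchDense

theorem presheaf_map_injective_iff {X : Scheme.{u}} {A B U : X.Opens} (hA : A ≤ U) (hB : B ≤ U)
    (h : A = B) : Function.Injective (X.presheaf.map (homOfLE hA).op) ↔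
      Function.Injective (X.presheaf.map (homOfLE hB).op) := by
  subst h; rfl

/-- The inclusion of a schematically dense open is scheme-theoretically dominant. -/
theorem isSchemeTheoreticallyDominant_ι {X : Scheme.{u}} {V : X.Opens}
    (hV : CInt.IsSchematicallyDense V) : IsSchemeTheoreticallyDominant V.ι := by
  rw [isSchemeTheoreticallyDominant_iff, ← le_bot_iff]
  intro U
  have h : Function.Injective (V.ι.app U.1) := by
    rw [Scheme.Opens.ι_app]
    exact (presheaf_map_injective_iff (V.ι.image_preimage_le U.1) inf_le_left (by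
      rw [Scheme.Hom.image_preimage_eq_opensRange_inf, Scheme.Opens.opensRange_ι, inf_comm])).mpr (hV U.1)
  refine (Scheme.Hom.ideal_ker_le _ U).trans ?_
  rw [RingHom.injective_iff_ker_eq_bot _ |>.mp h]
  simp

/-- Morphisms to a separated scheme agreeing on a schematically dense open agree. -/
theorem ext_of_isSchematicallyDense {X Y Z : Scheme.{u}} (s : Y ⟶ Z) [IsSeparated s] {f g : X ⟶ Y}
    (h : f ≫ s = g ≫ s) {V : X.Opens} (hV : CInt.IsSchematicallyDense V)
    (hU : V.ι ≫ f = V.ι ≫ g) : f = g :=
  have := isSchemeTheoreticallyDominant_ι hV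
  ext_of_schDominant s h V.ι hU

/-- The open where a section is invertible is schematically dense if the germs are regular. -/
theorem isSchematicallyDense_basicOpen {X : Scheme.{u}} (s : Γ(X, ⊤))
    (hs : ∀ x : X, X.presheaf.germ ⊤ x trivial s ∈ nonZeroDivisors (X.presheaf.stalk x)) :
    CInt.IsSchematicallyDense (X.basicOpen s) := by
  intro V a b hab
  refine TopCat.Presheaf.section_ext X.sheaf V a b fun x hxV => ?_
  obtain ⟨_, ⟨W, hW, rfl⟩, hxW, hWV⟩ := X.isBasis_affineOpens.exists_subset_of_mem_open hxV V.2
  let t : Γ(X, W) := X.presheaf.map (homOfLE le_top).op s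
  have hD : X.basicOpen t ≤ V ⊓ X.basicOpen s := by
    simp only [t, Scheme.basicOpen_res]
    exact inf_le_inf hWV le_rfl
  let a' := X.presheaf.map (homOfLE hWV).op a
  let b' := X.presheaf.map (homOfLE hWV).op b
  have e : ∀ c : Γ(X, V),
      X.presheaf.map (homOfLE (X.basicOpen_le t)).op (X.presheaf.map (homOfLE hWV).op c) =
        X.presheaf.map (homOfLE hD).op (X.presheaf.map (homOfLE inf_le_left).op c) := fun c => by
    refine (congr($((X.presheaf.map_comp _ _).symm) c)).trans
      ((?_ : _ = _).trans (congr($(X.presheaf.map_comp _ _) c)))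
    rfl
  have h1 : X.presheaf.map (homOfLE (X.basicOpen_le t)).op a' =
      X.presheaf.map (homOfLE (X.basicOpen_le t)).op b' := (e a).trans ((congrArg _ hab).trans (e b).symm)
  have := hW.isLocalization_basicOpen t
  obtain ⟨⟨_, n, rfl⟩, hc⟩ := (IsLocalization.eq_iff_exists (.powers t) Γ(X, X.basicOpen t)).mp h1
  have hg := congrArg (X.presheaf.germ W x hxW) hc
  rw [map_mul, map_mul, map_pow] at hg
  have ht : X.presheaf.germ W x hxW t = X.presheaf.germ ⊤ x trivial s :=
    TopCat.Presheaf.germ_res_apply _ _ _ _ _
  rw [ht] at hg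
  have h3 := (mul_cancel_left_mem_nonZeroDivisors (pow_mem (hs x) n)).mp hg
  exact ((TopCat.Presheaf.germ_res_apply _ _ _ _ _).symm.trans h3).trans
    (TopCat.Presheaf.germ_res_apply _ _ _ _ _)

end GrothLib.SchDense
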