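import Groth.Prelude.Def_Red
import Groth.Agent.Lib.Misc6.LiftClosed
import Groth.Agent.Lib.SchDense.Basic
import Groth.Agent.Lib.EssFree.Subgroup
import Groth.Agent.Lib.DiagGrp.Points
import Mathlib

/-!
# Schematic closures of closed subgroups of the generic fibre over a Dedekind domain
-/

universe u

open CategoryTheory CategoryTheory.Limits AlgebraicGeometry
open MonoidalCategory CartesianMonoidalCategory MonObj GrpObj

namespace GrothLib.SchDense

variable {R : Type u} [CommRing R]

/-- The map on global sections induced by a morphism to an affine scheme. -/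
noncomputable def globalMap {A : CommRingCat.{u}} {W : Scheme.{u}} (m : W ⟶ Spec A) : A ⟶ Γ(W, ⊤) :=
  (Scheme.ΓSpecIso A).inv ≫ m.appTop

theorem globalMap_comp_specMap {A B : CommRingCat.{u}} {W : Scheme.{u}} (m : W ⟶ Spec B)
    (ψ : A ⟶ B) : globalMap (m ≫ Spec.map ψ) = ψ ≫ globalMap m := by
  rw [globalMap, globalMap, Scheme.Hom.comp_appTop, ← Category.assoc, ← Scheme.ΓSpecIso_inv_naturality,
    Category.assoc]

/-- A scheme with a dominant map from a scheme over the fraction field is flat over a Dedekind domain. -/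
theorem flat_of_schDominant [IsDedekindDomain R] {W H : Scheme.{u}} (φ : W ⟶ H)
    [IsSchemeTheoreticallyDominant φ] [QuasiCompact φ] (f : H ⟶ Spec (CommRingCat.of R))
    (m : W ⟶ Spec (CommRingCat.of (FractionRing R)))
    (h : φ ≫ f = m ≫ Spec.map (CommRingCat.ofHom (algebraMap R (FractionRing R)))) : Flat f := by
  rw [IsZariskiLocalAtSource.iff_of_openCover (P := @Flat) H.affineCover]
  intro i
  obtain ⟨ψ, hψ⟩ : ∃ ψ : CommRingCat.of R ⟶ _, Spec.map ψ = H.affineCover.f i ≫ f :=
    ⟨Spec.preimage _, Spec.map_preimage _⟩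
  show Flat (H.affineCover.f i ≫ f)
  rw [← hψ]
  refine (HasRingHomProperty.Spec_iff (P := @Flat)).mpr ?_
  let φi := pullback.snd φ (H.affineCover.f i)
  have hinj : Function.Injective φi.appTop := φi.app_injective ⊤
  have key : globalMap (φi ≫ Spec.map ψ) =
      CommRingCat.ofHom (algebraMap R (FractionRing R)) ≫ globalMap (pullback.fst φ (H.affineCover.f i) ≫ m) := by
    rw [← globalMap_comp_specMap]
    congr 1
    rw [hψ, ← Category.assoc, ← pullback.condition, Category.assoc, h, Category.assoc]
  have key2 : globalMap (φi ≫ Spec.map ψ) = ψ ≫ (Scheme.ΓSpecIso _).inv ≫ φi.appTop :=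
    globalMap_comp_specMap φi ψ
  let A := Γ(pullback φ (H.affineCover.f i), ⊤)
  letI : Algebra R _ := ψ.hom.toAlgebra
  show Module.Flat R _
  rw [IsDedekindDomain.flat_iff_torsion_eq_bot, eq_bot_iff]
  rintro x ⟨⟨r, hr⟩, hrx : r • x = 0⟩
  rw [Algebra.smul_def] at hrx
  let θ := (Scheme.ΓSpecIso _).inv ≫ φi.appTop
  have hθ : Function.Injective θ := hinj.comp (Scheme.ΓSpecIso _).symm.commRingCatIsoToRingEquiv.injective
  have h1 : θ (ψ r) * θ x = 0 := by rw [← map_mul]; exact (congrArg θ hrx).trans (map_zero θ.hom)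
  have h2 : IsUnit (θ (ψ r)) := by
    have e : θ (ψ r) = globalMap (pullback.fst φ (H.affineCover.f i) ≫ m) (algebraMap R (FractionRing R) r) :=
      congrArg (fun q => q r) (key2.symm.trans key)
    rw [e]
    exact (IsLocalization.map_units (FractionRing R) ⟨r, hr⟩).map
      (globalMap (A := CommRingCat.of (FractionRing R)) (pullback.fst φ (H.affineCover.f i) ≫ m)).hom
  exact hθ ((h2.mul_right_eq_zero.mp h1).trans (map_zero θ.hom).symm)

theorem isSchemeTheoreticallyDominant_genPt [IsDomain R] :
    IsSchemeTheoreticallyDominant (Spec.map (CommRingCat.ofHom (algebraMap R (FractionRing R)))) := by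
  haveI : IsDominant (Spec.map (CommRingCat.ofHom (algebraMap R (FractionRing R)))) := ⟨by
    refine (PrimeSpectrum.denseRange_comap_iff_ker_le_nilRadical _).mpr ?_
    exact ((RingHom.injective_iff_ker_eq_bot (algebraMap R (FractionRing R))).mp
      (IsFractionRing.injective R (FractionRing R))).le.trans bot_le⟩
  exact IsSchemeTheoreticallyDominant.of_isDominant _

/-- The schematic closure of a closed subgroup of the generic fibre is a flat closed subgroup. -/
theorem exists_flat_closedSubgroup [IsDedekindDomain R]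
    (G : Over (Spec (CommRingCat.of R))) [GrpObj G]
    (HK : Over (Spec (CommRingCat.of (FractionRing R)))) [GrpObj HK]
    (i : HK ⟶ Red.bc (Spec.map (CommRingCat.ofHom (algebraMap R (FractionRing R)))) G)
    [IsMonHom i] [IsClosedImmersion i.left] :
    ∃ (H : Over (Spec (CommRingCat.of R))) (_ : GrpObj H) (j : H ⟶ G) (φ : HK.left ⟶ H.left),
      IsMonHom j ∧ IsClosedImmersion j.left ∧ Flat H.hom ∧
      IsPullback φ HK.hom H.hom (Spec.map (CommRingCat.ofHom (algebraMap R (FractionRing R)))) ∧
      φ ≫ j.left = i.left ≫ pullback.fst G.hom (Spec.map (CommRingCat.ofHom (algebraMap R (FractionRing R)))) ∧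
      φ.ker = ⊥ := by
  let g := Spec.map (CommRingCat.ofHom (algebraMap R (FractionRing R)))
  haveI : IsSchemeTheoreticallyDominant g := isSchemeTheoreticallyDominant_genPt
  haveI : Mono g := by
    haveI := IsPreimmersion.of_isLocalization (R := R) (S := FractionRing R) (nonZeroDivisors R)
    infer_instance
  let ι₀ : HK.left ⟶ G.left := i.left ≫ pullback.fst G.hom g
  haveI : QuasiCompact ι₀ := inferInstance
  let φ := ι₀.toImage
  haveI : IsSchemeTheoreticallyDominant φ := GrothLib.Misc6.isSchemeTheoreticallyDominant_toImage ι₀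
  let H : Over (Spec (CommRingCat.of R)) := Over.mk (ι₀.imageι ≫ G.hom)
  let j : H ⟶ G := Over.homMk ι₀.imageι
  haveI : IsClosedImmersion j.left := inferInstanceAs (IsClosedImmersion ι₀.imageι)
  have hφj : φ ≫ j.left = ι₀ := ι₀.toImage_imageι
  have hiw : i.left ≫ pullback.snd G.hom g = HK.hom := Over.w i
  have hw : φ ≫ H.hom = HK.hom ≫ g := by
    show φ ≫ j.left ≫ G.hom = _
    rw [reassoc_of% hφj, ← hiw]
    simp only [ι₀, Category.assoc, pullback.condition]
  haveI : Flat H.hom := flat_of_schDominant φ H.hom HK.hom hw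
  haveI : Flat g := (HasRingHomProperty.Spec_iff (P := @Flat)).mpr (by
    show (algebraMap R (FractionRing R)).Flat
    rw [RingHom.flat_algebraMap_iff]
    exact IsLocalization.flat _ (nonZeroDivisors R))
  haveI : Flat (pullback.fst H.hom g) := MorphismProperty.pullback_fst (P := @Flat) _ _ inferInstance
  -- the generic fibre
  let l : HK.left ⟶ pullback H.hom g := pullback.lift φ HK.hom hw
  haveI : IsClosedImmersion l := by
    let q : pullback H.hom g ⟶ pullback G.hom g :=
      pullback.map H.hom g G.hom g j.left (𝟙 _) (𝟙 _) (by simp) (by simp)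
    have hl1 : l ≫ pullback.fst H.hom g = φ := pullback.lift_fst _ _ _
    have hl2 : l ≫ pullback.snd H.hom g = HK.hom := pullback.lift_snd _ _ _
    have hq1 : q ≫ pullback.fst G.hom g = pullback.fst H.hom g ≫ j.left := pullback.lift_fst _ _ _
    have hq2 : q ≫ pullback.snd G.hom g = pullback.snd H.hom g := (pullback.lift_snd _ _ _).trans (Category.comp_id _)
    have e : l ≫ q = i.left := by
      apply pullback.hom_ext
      · rw [Category.assoc, hq1, reassoc_of% hl1, hφj]
      · rw [Category.assoc, hq2, hl2, hiw]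
    haveI : IsSeparated q := by
      haveI : Mono q := by
        refine ⟨fun a b hab => pullback.hom_ext ?_ ?_⟩
        · rw [← cancel_mono j.left, Category.assoc, Category.assoc, ← hq1, reassoc_of% hab]
        · rw [← hq2, reassoc_of% hab]
      infer_instance
    haveI : IsClosedImmersion (l ≫ q) := by rw [e]; infer_instance
    exact IsClosedImmersion.of_comp l q
  haveI : IsIso l := by
    have hl1 : l ≫ pullback.fst H.hom g = φ := pullback.lift_fst _ _ _
    have sq : IsPullback (𝟙 HK.left) l φ (pullback.fst H.hom g) := by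
      refine ⟨⟨by rw [Category.id_comp, hl1]⟩, ⟨PullbackCone.IsLimit.mk _ (fun s => s.fst) (fun s => Category.comp_id _)
        (fun s => ?_) (fun s m h1 _ => by simpa using h1)⟩⟩
      haveI : Mono (pullback.fst H.hom g) := inferInstance
      rw [← cancel_mono (pullback.fst H.hom g), Category.assoc, hl1, s.condition]
    haveI : IsSchemeTheoreticallyDominant l := IsSchemeTheoreticallyDominant.of_isPullback sq
    exact isIso_of_factor l l (𝟙 _) (Category.id_comp _)
  have hpb : IsPullback φ HK.hom H.hom g := by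
    exact IsPullback.of_iso_pullback ⟨hw⟩ (asIso l) (pullback.lift_fst _ _ _) (pullback.lift_snd _ _ _)
  -- points of `H` over flat test objects
  have pts : ∀ (T : Over (Spec (CommRingCat.of R))) (F : T ⟶ G), Flat T.hom →
      (∃ y : Over.mk (pullback.snd T.hom g) ⟶ HK, y.left ≫ ι₀ = pullback.fst T.hom g ≫ F.left) →
      ∃ z : T ⟶ H, z ≫ j = F := by
    intro T F hT ⟨y, hy⟩
    haveI := hT
    obtain ⟨F', hF'⟩ := exists_lift_of_schDominant j.left F.left (pullback.fst T.hom g) (y.left ≫ φ)
      (by rw [Category.assoc, hφj, hy])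
    exact ⟨Over.homMk F' (by rw [← Over.w j, reassoc_of% hF', Over.w]), Over.OverMorphism.ext hF'⟩
  -- restriction of points to the generic fibre
  let res : ∀ {T : Over (Spec (CommRingCat.of R))} (a : T ⟶ H), Over.mk (pullback.snd T.hom g) ⟶ HK := fun {T} a =>
    Over.homMk (hpb.lift (pullback.fst T.hom g ≫ a.left) (pullback.snd T.hom g)
      (by rw [Category.assoc, Over.w, pullback.condition])) (hpb.lift_snd _ _ _)
  let e : ∀ T : Over (Spec (CommRingCat.of R)),
      ((Over.map g).obj (Over.mk (pullback.snd T.hom g)) ⟶ G) ≃* (Over.mk (pullback.snd T.hom g) ⟶ Red.bc g G) :=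
    fun T => GrothLib.DiagGrp.bcPointMulEquiv g G _
  let π : ∀ T : Over (Spec (CommRingCat.of R)), (Over.map g).obj (Over.mk (pullback.snd T.hom g)) ⟶ T := fun T =>
    Over.homMk (pullback.fst T.hom g) pullback.condition
  have he : ∀ (T : Over (Spec (CommRingCat.of R))) (x : (Over.map g).obj (Over.mk (pullback.snd T.hom g)) ⟶ G),
      (e T x).left ≫ pullback.fst G.hom g = x.left := fun T x => by
    simp [e, GrothLib.DiagGrp.bcPointMulEquiv, GrothLib.DiagGrp.bcPoint, Over.mapPullbackAdj]
    exact pullback.lift_fst _ _ _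
  have hres : ∀ (T : Over (Spec (CommRingCat.of R))) (a : T ⟶ H), e T (π T ≫ a ≫ j) = res a ≫ i := by
    intro T a
    refine Over.OverMorphism.ext (pullback.hom_ext ?_ ?_)
    · rw [he]
      show pullback.fst T.hom g ≫ a.left ≫ j.left = ((res a).left ≫ i.left) ≫ pullback.fst G.hom g
      rw [Category.assoc, show i.left ≫ pullback.fst G.hom g = φ ≫ j.left from hφj.symm]
      simp only [res, Over.homMk_left, ← Category.assoc, hpb.lift_fst]
    · exact (Over.w (e T (π T ≫ a ≫ j))).trans (Over.w (res a ≫ i)).symm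
  have main : ∀ (T : Over (Spec (CommRingCat.of R))) (F : T ⟶ G) (y : Over.mk (pullback.snd T.hom g) ⟶ HK),
      Flat T.hom → e T (π T ≫ F) = y ≫ i → ∃ z : T ⟶ H, z ≫ j = F := by
    intro T F y hT h
    refine pts T F hT ⟨y, ?_⟩
    have := congrArg (fun q : _ ⟶ Red.bc g G => q.left ≫ pullback.fst G.hom g) h
    simp only [he] at this
    rw [show pullback.fst T.hom g ≫ F.left = (π T ≫ F).left from rfl, this]
    exact (Category.assoc _ _ _).symm
  haveI : Mono j := by
    haveI : Mono ((Over.forget _).map j) := inferInstanceAs (Mono ι₀.imageι)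
    exact (Over.forget _).mono_of_mono_map inferInstance
  haveI : Flat (H ⊗ H).hom := by
    show Flat (pullback.fst H.hom H.hom ≫ H.hom)
    infer_instance
  obtain ⟨inst, hj⟩ := GrothLib.EssFree.exists_grpObj_of_mono j
    (fun T => by
      haveI : Flat (𝟙_ (Over (Spec (CommRingCat.of R)))).hom := inferInstanceAs (Flat (𝟙 _))
      obtain ⟨z, hz⟩ := main (𝟙_ _) 1 1 inferInstance (by rw [MonObj.comp_one, map_one, MonObj.one_comp])
      exact ⟨toUnit T ≫ z, by rw [Category.assoc, hz, MonObj.comp_one]⟩)
    (fun T a b => by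
      obtain ⟨z, hz⟩ := main (H ⊗ H) ((fst H H ≫ j) * (snd H H ≫ j)) (res (fst H H) * res (snd H H)) inferInstance
        (by rw [MonObj.comp_mul, map_mul, hres, hres, MonObj.mul_comp])
      exact ⟨CartesianMonoidalCategory.lift a b ≫ z, by
        rw [Category.assoc, hz, MonObj.comp_mul, ← Category.assoc, ← Category.assoc, lift_fst, lift_snd]⟩)
    (fun T a => by
      obtain ⟨z, hz⟩ := main H (j⁻¹) (res (𝟙 H))⁻¹ inferInstance
        (by rw [GrpObj.comp_inv, map_inv, GrpObj.inv_comp, ← hres, Category.id_comp])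
      exact ⟨a ≫ z, by rw [Category.assoc, hz, GrpObj.comp_inv]⟩)
  exact ⟨H, inst, j, φ, hj, inferInstance, inferInstance, hpb, hφj, φ.ker_eq_bot⟩

end GrothLib.SchDense
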