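import Mathlib.Algebra.Category.Ring.Constructions
import Mathlib.AlgebraicGeometry.Pullbacks
import Mathlib.RingTheory.Localization.FractionRing

universe u

open CategoryTheory Limits AlgebraicGeometry

namespace GrothLib.SchDense

theorem isPullback_fractionRing {R R' K K' : Type u} [CommRing R] [CommRing R'] [CommRing K] [CommRing K']
    [Algebra R K] [Algebra R' K'] (f : R →+* R') (fm : K →+* K') (H : ∀ r, fm (algebraMap R K r) = algebraMap R' K' (f r))
    (M : Submonoid R) [IsLocalization M K] [IsLocalization (M.map f) K'] :
    IsPullback (Spec.map (CommRingCat.ofHom (algebraMap R' K'))) (Spec.map (CommRingCat.ofHom fm))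
      (Spec.map (CommRingCat.ofHom f)) (Spec.map (CommRingCat.ofHom (algebraMap R K))) :=
  isPullback_SpecMap_of_isPushout _ _ _ _
    (CommRingCat.isPushout_of_isLocalization f fm (RingHom.ext H) M)

end GrothLib.SchDense
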