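import Groth.Agent.Lib.SchDense.NeronUnique
import Groth.Prelude.Def_NonAbH2
import Mathlib.AlgebraicGeometry.Sites.Fpqc
import Mathlib.CategoryTheory.Monoidal.Cartesian.Over

/-!
The Néron mapping property passes between a group and its pseudo-torsors with étale local sections.
-/

universe u

open CategoryTheory Limits AlgebraicGeometry MonoidalCategory CartesianMonoidalCategory MonObj

namespace GrothLib.SchDense

/-- Smooth surjective morphisms over a field of characteristic zero have sections étale locally. -/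
theorem exists_etale_cover {k : Type u} [Field k] [CharZero k] {S X : Scheme.{u}}
    (σ : S ⟶ Spec (CommRingCat.of k)) (f : X ⟶ S) [Smooth f] [Surjective f] :
    ∃ (S' : Scheme.{u}) (π : S' ⟶ S) (n : S' ⟶ X), Etale π ∧ Surjective π ∧ n ≫ f = π := by
  have key : ∀ s : S, ∃ (U : Scheme.{u}) (p : U ⟶ X) (z : U), Etale (p ≫ f) ∧ f (p z) = s := by
    intro s
    have : LocallyOfFiniteType (f.fiberToSpecResidueField s) := MorphismProperty.pullback_snd _ _ inferInstance
    have : JacobsonSpace (f.fiber s) := LocallyOfFiniteType.jacobsonSpace (f.fiberToSpecResidueField s)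
    obtain ⟨x, hx⟩ := f.surjective s
    subst hx
    obtain ⟨w, -, hw⟩ := nonempty_inter_closedPoints (X := f.fiber (f x)) (Z := Set.univ) ⟨f.asFiber x, trivial⟩
      isClosed_univ.isLocallyClosed
    obtain ⟨alg, hfd, hsep, hc⟩ := exists_isClosed_fiber_point σ f (f x) w hw
    obtain ⟨U, p, u, hup, het⟩ := @GrothLib.SmoothSection.exists_etale_quasiSection _ _ f _ (f x)
      ((f.fiber (f x)).residueField w) _ alg hfd hsep
      ((f.fiber (f x)).fromSpecResidueField w ≫ f.fiberι (f x)) hc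
    refine ⟨U, p, u (IsLocalRing.closedPoint _), het, ?_⟩
    rw [← Scheme.Hom.comp_apply u p, hup, Scheme.Hom.comp_apply, Scheme.fromSpecResidueField_apply]
    have : f.fiberι (f x) w ∈ Set.range (f.fiberι (f x)) := ⟨w, rfl⟩
    rwa [Scheme.Hom.range_fiberι] at this
  choose U p z het hz using key
  refine ⟨∐ U, Sigma.desc fun s => p s ≫ f, Sigma.desc p, ?_, ⟨fun s => ⟨Sigma.ι U s (z s), ?_⟩⟩, by ext; simp⟩
  · rw [IsZariskiLocalAtSource.iff_of_openCover (P := @Etale) (sigmaOpenCover _)]
    intro i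
    change Etale (Sigma.ι U i ≫ Sigma.desc fun s => p s ≫ f)
    rw [Sigma.ι_desc]
    exact het i
  · rw [← Scheme.Hom.comp_apply, Sigma.ι_desc, Scheme.Hom.comp_apply]
    exact hz s

section

variable {S : Scheme.{u}} {S₀ : S.Opens}

/-- The mapping property. -/
def NMP (S₀ : S.Opens) (N : Over S) : Prop :=
  ∀ Z : Over S, Smooth Z.hom → Function.Bijective (fun g : Z ⟶ N => (Over.pullback S₀.ι).map g)

theorem map_hom_ext {A B : Over S} {W : Over (S₀ : Scheme.{u})} (φ ψ : W ⟶ (Over.pullback S₀.ι).obj (A ⊗ B))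
    (h1 : φ ≫ (Over.pullback S₀.ι).map (fst A B) = ψ ≫ (Over.pullback S₀.ι).map (fst A B))
    (h2 : φ ≫ (Over.pullback S₀.ι).map (snd A B) = ψ ≫ (Over.pullback S₀.ι).map (snd A B)) : φ = ψ := by
  rw [← cancel_mono (CartesianMonoidalCategory.prodComparison (Over.pullback S₀.ι) A B)]
  ext1
  · rwa [Category.assoc, Category.assoc, CartesianMonoidalCategory.prodComparison_fst]
  · rwa [Category.assoc, Category.assoc, CartesianMonoidalCategory.prodComparison_snd]

theorem exists_map_lift {A B : Over S} {W : Over (S₀ : Scheme.{u})} (α : W ⟶ (Over.pullback S₀.ι).obj A)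
    (β : W ⟶ (Over.pullback S₀.ι).obj B) :
    ∃ γ, γ ≫ (Over.pullback S₀.ι).map (fst A B) = α ∧ γ ≫ (Over.pullback S₀.ι).map (snd A B) = β :=
  ⟨lift α β ≫ inv (CartesianMonoidalCategory.prodComparison (Over.pullback S₀.ι) A B),
    by rw [Category.assoc, CartesianMonoidalCategory.inv_prodComparison_map_fst, lift_fst],
    by rw [Category.assoc, CartesianMonoidalCategory.inv_prodComparison_map_snd, lift_snd]⟩

variable {Z Z' M : Over S} (p : Z' ⟶ Z) [Etale p.left] [Surjective p.left]

theorem epi_cover : Epi p := ⟨fun g h e => Over.OverMorphism.ext ((cancel_epi p.left).mp congr($(e).left))⟩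

theorem epi_map_cover : Epi ((Over.pullback S₀.ι).map p) := by
  have h1 : Etale ((Over.pullback S₀.ι).map p).left := MorphismProperty.overPullbackMap (P := @Etale) _ p ‹_›
  have h2 : Surjective ((Over.pullback S₀.ι).map p).left :=
    MorphismProperty.overPullbackMap (P := @Surjective) _ p ‹_›
  exact ⟨fun g h e => Over.OverMorphism.ext ((cancel_epi ((Over.pullback S₀.ι).map p).left).mp congr($(e).left))⟩

/-- Extensions from an étale cover descend when extensions are unique. -/
theorem exists_desc [Smooth Z'.hom]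
    (hinj : ∀ W : Over S, Smooth W.hom → Function.Injective (fun g : W ⟶ M => (Over.pullback S₀.ι).map g))
    (m : Z' ⟶ M) (f₀ : (Over.pullback S₀.ι).obj Z ⟶ (Over.pullback S₀.ι).obj M)
    (hm : (Over.pullback S₀.ι).map m = (Over.pullback S₀.ι).map p ≫ f₀) :
    ∃ g : Z ⟶ M, (Over.pullback S₀.ι).map g = f₀ := by
  let W : Over S := Over.mk (pullback.fst p.left p.left ≫ Z'.hom)
  let r₁ : W ⟶ Z' := Over.homMk (pullback.fst p.left p.left) rfl
  let r₂ : W ⟶ Z' := Over.homMk (pullback.snd p.left p.left) (by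
    show pullback.snd p.left p.left ≫ Z'.hom = pullback.fst p.left p.left ≫ Z'.hom
    rw [← Over.w p, ← Category.assoc, ← Category.assoc, pullback.condition])
  have hW : Smooth W.hom := by
    show Smooth (pullback.fst p.left p.left ≫ Z'.hom)
    infer_instance
  have hr : r₁ ≫ m = r₂ ≫ m := hinj W hW (by
    show (Over.pullback S₀.ι).map _ = (Over.pullback S₀.ι).map _
    have e : r₁ ≫ p = r₂ ≫ p := Over.OverMorphism.ext pullback.condition
    rw [Functor.map_comp, Functor.map_comp, hm, ← Category.assoc, ← Category.assoc, ← Functor.map_comp,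
      ← Functor.map_comp, e])
  have hd : ∀ {T : Scheme.{u}} (g₁ g₂ : T ⟶ Z'.left), g₁ ≫ p.left = g₂ ≫ p.left → g₁ ≫ m.left = g₂ ≫ m.left := by
    intro T g₁ g₂ e
    have h := congrArg (pullback.lift g₁ g₂ e ≫ ·) congr($(hr).left)
    simp only [r₁, r₂, Over.comp_left, Over.homMk_left, pullback.lift_fst_assoc, pullback.lift_snd_assoc] at h
    exact h
  let d := EffectiveEpi.desc p.left m.left hd
  have hdp : p.left ≫ d = m.left := EffectiveEpi.fac p.left m.left hd
  let g : Z ⟶ M := Over.homMk d (by rw [← cancel_epi p.left, ← Category.assoc, hdp, Over.w m, Over.w p])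
  refine ⟨g, ?_⟩
  have := epi_map_cover (S₀ := S₀) p
  rw [← cancel_epi ((Over.pullback S₀.ι).map p), ← Functor.map_comp, show p ≫ g = m from Over.OverMorphism.ext hdp, hm]

end

theorem nmp_iff_of_pseudoTorsor {k : Type u} [Field k] [CharZero k] {S : Scheme.{u}}
    (σ : S ⟶ Spec (CommRingCat.of k)) (S₀ : S.Opens) (G : Over S) [GrpObj G] (N : Over S) [Smooth N.hom]
    [Surjective N.hom] (a : AlgGrp.Action G N) (ha : NonAbH1.IsPseudoTorsorSch a) :
    NMP S₀ G ↔ NMP S₀ N := by
  let F := Over.pullback S₀.ι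
  let τ := lift a.act (snd G N)
  have : IsIso τ := ha
  have hτ₁ : τ ≫ snd N N = snd G N := lift_snd _ _
  have hτ₂ : inv τ ≫ snd G N = snd N N := by rw [IsIso.inv_comp_eq, hτ₁]
  obtain ⟨S', π, n, hπ, hπs, hn⟩ := exists_etale_cover σ N.hom
  have hcov : ∀ Z : Over S, Smooth Z.hom → ∃ (Z' : Over S) (p : Z' ⟶ Z) (_ : Z' ⟶ N),
      Smooth Z'.hom ∧ Etale p.left ∧ Surjective p.left := fun Z hZ => by
    refine ⟨Over.mk (pullback.fst Z.hom π ≫ Z.hom), Over.homMk (pullback.fst Z.hom π) rfl,
      Over.homMk (pullback.snd Z.hom π ≫ n) ?_, ?_, ?_, ?_⟩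
    · show (pullback.snd Z.hom π ≫ n) ≫ N.hom = pullback.fst Z.hom π ≫ Z.hom
      rw [Category.assoc, hn, pullback.condition]
    · show Smooth (pullback.fst Z.hom π ≫ Z.hom)
      infer_instance
    · exact MorphismProperty.pullback_fst (P := @Etale) _ _ hπ
    · exact MorphismProperty.pullback_fst (P := @Surjective) _ _ hπs
  constructor
  · intro hG
    have hinj : ∀ Z : Over S, Smooth Z.hom → Function.Injective (fun g : Z ⟶ N => F.map g) := by
      intro Z hZ g₁ g₂ hg
      replace hg : F.map g₁ = F.map g₂ := hg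
      have h : F.map (lift g₁ g₂ ≫ inv τ) = F.map (lift g₂ g₂ ≫ inv τ) := by
        rw [F.map_comp, F.map_comp]
        congr 1
        refine map_hom_ext _ _ ?_ ?_
        · rw [← F.map_comp, ← F.map_comp, lift_fst, lift_fst, hg]
        · rw [← F.map_comp, ← F.map_comp, lift_snd, lift_snd]
      have h' : lift g₁ g₂ ≫ inv τ = lift g₂ g₂ ≫ inv τ := by
        refine CartesianMonoidalCategory.hom_ext _ _ ((hG Z hZ).1 ?_) ?_
        · show F.map _ = F.map _
          rw [F.map_comp, h, ← F.map_comp]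
        · rw [Category.assoc, Category.assoc, hτ₂, lift_snd, lift_snd]
      simpa using congrArg (· ≫ fst N N) ((cancel_mono (inv τ)).mp h')
    intro Z hZ
    refine ⟨hinj Z hZ, fun f₀ => ?_⟩
    obtain ⟨Z', p, m, hZ', hp, hps⟩ := hcov Z hZ
    obtain ⟨γ, hγ₁, hγ₂⟩ := exists_map_lift (F.map p ≫ f₀) (F.map m)
    obtain ⟨g, hg⟩ := (hG Z' hZ').2 (γ ≫ F.map (inv τ ≫ fst G N))
    replace hg : F.map g = γ ≫ F.map (inv τ ≫ fst G N) := hg
    refine exists_desc p hinj (lift g m ≫ a.act) f₀ ?_
    have h : F.map (lift g m) = γ ≫ F.map (inv τ) := by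
      refine map_hom_ext _ _ ?_ ?_
      · rw [← F.map_comp, lift_fst, hg, Category.assoc, ← F.map_comp]
      · rw [← F.map_comp, lift_snd, Category.assoc, ← F.map_comp, hτ₂, hγ₂]
    rw [F.map_comp, h, Category.assoc, ← F.map_comp, show inv τ ≫ a.act = fst N N by
      rw [IsIso.inv_comp_eq, lift_fst], hγ₁]
  · intro hN
    have hinj : ∀ Z : Over S, Smooth Z.hom → Function.Injective (fun g : Z ⟶ G => F.map g) := by
      intro Z hZ g₁ g₂ hg
      replace hg : F.map g₁ = F.map g₂ := hg
      obtain ⟨Z', p, m, hZ', hp, hps⟩ := hcov Z hZ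
      have h0 : F.map (lift (p ≫ g₁) m) = F.map (lift (p ≫ g₂) m) := by
        refine map_hom_ext _ _ ?_ ?_
        · rw [← F.map_comp, ← F.map_comp, lift_fst, lift_fst, F.map_comp, hg, ← F.map_comp]
        · rw [← F.map_comp, ← F.map_comp, lift_snd, lift_snd]
      have h' : lift (p ≫ g₁) m ≫ τ = lift (p ≫ g₂) m ≫ τ := by
        refine CartesianMonoidalCategory.hom_ext _ _ ((hN Z' hZ').1 ?_) ?_
        · show F.map _ = F.map _
          rw [F.map_comp, F.map_comp, h0, ← F.map_comp, ← F.map_comp]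
        · rw [Category.assoc, Category.assoc, hτ₁, lift_snd, lift_snd]
      have := epi_cover p
      rw [← cancel_epi p]
      simpa using congrArg (· ≫ fst G N) ((cancel_mono τ).mp h')
    intro Z hZ
    refine ⟨hinj Z hZ, fun g₀ => ?_⟩
    obtain ⟨Z', p, m, hZ', hp, hps⟩ := hcov Z hZ
    obtain ⟨γ, hγ₁, hγ₂⟩ := exists_map_lift (F.map p ≫ g₀) (F.map m)
    obtain ⟨g, hg⟩ := (hN Z' hZ').2 (γ ≫ F.map (τ ≫ fst N N))
    replace hg : F.map g = γ ≫ F.map (τ ≫ fst N N) := hg
    refine exists_desc p hinj (lift g m ≫ inv τ ≫ fst G N) g₀ ?_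
    have h : F.map (lift g m) = γ ≫ F.map τ := by
      refine map_hom_ext _ _ ?_ ?_
      · rw [← F.map_comp, lift_fst, hg, Category.assoc, ← F.map_comp]
      · rw [← F.map_comp, lift_snd, Category.assoc, ← F.map_comp, hτ₁, hγ₂]
    rw [F.map_comp, h, Category.assoc, ← F.map_comp, IsIso.hom_inv_id_assoc, hγ₁]

end GrothLib.SchDense
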