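import Groth.Agent.Lib.SmoothSection.QuasiSection
import Groth.Agent.Lib.SchDense.Basic
import Groth.Agent.Lib.SchDense.CIntDense
import Mathlib.AlgebraicGeometry.Morphisms.Immersion
import Mathlib.AlgebraicGeometry.Morphisms.FinitePresentation
import Mathlib.AlgebraicGeometry.AlgClosed.Basic
import Mathlib.AlgebraicGeometry.Fiber

/-!
The weak Néron mapping property gives uniqueness of extensions from smooth schemes.
-/

universe u

open CategoryTheory Limits AlgebraicGeometry

namespace GrothLib.SchDense

/-- A locally closed subset containing the closed points of a Jacobson space is everything. -/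
theorem eq_univ_of_closedPoints_subset {T : Type*} [TopologicalSpace T] [JacobsonSpace T] {L : Set T}
    (hL : IsLocallyClosed L) (h : closedPoints T ⊆ L) : L = Set.univ := by
  obtain ⟨U, C, hU, hC, rfl⟩ := hL
  refine Set.eq_univ_of_forall fun x => ⟨?_, ?_⟩
  · by_contra hx
    obtain ⟨p, hp, hpc⟩ := nonempty_inter_closedPoints (Z := Uᶜ) ⟨x, hx⟩ hU.isClosed_compl.isLocallyClosed
    exact hp (h hpc).1
  · by_contra hx
    obtain ⟨p, hp, hpc⟩ := nonempty_inter_closedPoints (Z := Cᶜ) ⟨x, hx⟩ hC.isOpen_compl.isLocallyClosed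
    exact hp (h hpc).2

theorem exists_isClosed_fiber_point {Z S : Scheme.{u}} {k : Type u} [Field k] [CharZero k]
    (σ : S ⟶ Spec (CommRingCat.of k)) (f : Z ⟶ S) [LocallyOfFiniteType f] (s : S) (w : f.fiber s)
    (hw : IsClosed ({w} : Set (f.fiber s))) :
    ∃ (_ : Algebra (S.residueField s) ((f.fiber s).residueField w)),
      FiniteDimensional (S.residueField s) ((f.fiber s).residueField w) ∧
      Algebra.IsSeparable (S.residueField s) ((f.fiber s).residueField w) ∧
      ((f.fiber s).fromSpecResidueField w ≫ f.fiberι s) ≫ f =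
        Spec.map (CommRingCat.ofHom (algebraMap (S.residueField s) ((f.fiber s).residueField w))) ≫
          S.fromSpecResidueField s := by
  have : LocallyOfFiniteType (f.fiberToSpecResidueField s) := MorphismProperty.pullback_snd _ _ ‹_›
  let h := (f.fiber s).fromSpecResidueField w ≫ f.fiberToSpecResidueField s
  have hfin : IsFinite h := by
    have : IsClosedImmersion ((f.fiber s).fromSpecResidueField w) := by
      rwa [isClosed_singleton_iff_isClosedImmersion] at hw
    rw [isFinite_iff_locallyOfFiniteType_of_jacobsonSpace]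
    infer_instance
  have hfin' : (Spec.preimage h).hom.Finite := by
    rw [← IsFinite.SpecMap_iff, Spec.map_preimage]
    exact hfin
  letI := (Spec.preimage h).hom.toAlgebra
  refine ⟨inferInstance, hfin', ?_, ?_⟩
  · have : CharZero (S.residueField s) :=
      charZero_of_injective_ringHom (RingHom.injective (Spec.preimage (S.fromSpecResidueField s ≫ σ)).hom)
    have : FiniteDimensional (S.residueField s) ((f.fiber s).residueField w) := hfin'
    exact inferInstance
  · rw [show CommRingCat.ofHom (algebraMap (S.residueField s) ((f.fiber s).residueField w)) = Spec.preimage h from rfl,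
      Spec.map_preimage]
    simp only [h, Category.assoc]
    exact congrArg ((f.fiber s).fromSpecResidueField w ≫ ·) pullback.condition

theorem injective_of_weakNeron {k : Type u} [Field k] [CharZero k] {S : Scheme.{u}}
    (σ : S ⟶ Spec (CommRingCat.of k)) [IsLocallyNoetherian S] (S₀ : S.Opens)
    (hS₀ : CInt.IsSchematicallyDense S₀) (N : Over S)
    (hN : ∀ U : Over S, Etale U.hom → Function.Injective (fun g : U ⟶ N => (Over.pullback S₀.ι).map g))
    (Z : Over S) [Smooth Z.hom] :
    Function.Injective (fun g : Z ⟶ N => (Over.pullback S₀.ι).map g) := by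
  intro g₁ g₂ hg
  let δ := pullback.lift g₁.left g₂.left (by rw [Over.w g₁, Over.w g₂])
  let e := pullback.fst δ (pullback.diagonal N.hom)
  have heq : e ≫ g₁.left = e ≫ g₂.left := by
    have h1 := congrArg (· ≫ pullback.fst N.hom N.hom) (pullback.condition (f := δ) (g := pullback.diagonal N.hom))
    have h2 := congrArg (· ≫ pullback.snd N.hom N.hom) (pullback.condition (f := δ) (g := pullback.diagonal N.hom))
    simp only [δ, Category.assoc, pullback.lift_fst, pullback.lift_snd, pullback.diagonal_fst,
      pullback.diagonal_snd] at h1 h2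
    exact h1.trans h2.symm
  have hfac : ∀ {T : Scheme.{u}} (t : T ⟶ Z.left), t ≫ g₁.left = t ≫ g₂.left → ∃ l, l ≫ e = t := fun t ht =>
    ⟨pullback.lift t (t ≫ g₁.left) (by
      apply pullback.hom_ext
      · show (t ≫ δ) ≫ _ = ((t ≫ g₁.left) ≫ _) ≫ _
        simp only [δ, Category.assoc, pullback.diagonal_fst, Category.comp_id]
        exact congrArg (t ≫ ·) (pullback.lift_fst _ _ _)
      · show (t ≫ δ) ≫ _ = ((t ≫ g₁.left) ≫ _) ≫ _
        simp only [δ, Category.assoc, pullback.diagonal_snd, Category.comp_id]
        exact (congrArg (t ≫ ·) (pullback.lift_snd _ _ _)).trans ht.symm), pullback.lift_fst _ _ _⟩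
  have : IsImmersion e := MorphismProperty.pullback_fst (P := @IsImmersion) _ _ inferInstance
  have hsurj : Function.Surjective e := by
    intro x
    let s := Z.hom x
    have : LocallyOfFiniteType (Z.hom.fiberToSpecResidueField s) := MorphismProperty.pullback_snd _ _ inferInstance
    have : JacobsonSpace (Z.hom.fiber s) := LocallyOfFiniteType.jacobsonSpace (Z.hom.fiberToSpecResidueField s)
    have hall : Z.hom.fiberι s ⁻¹' Set.range e = Set.univ := by
      refine eq_univ_of_closedPoints_subset (e.isLocallyClosed_range.preimage (Z.hom.fiberι s).continuous) fun w hw => ?_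
      obtain ⟨alg, hfd, hsep, hc⟩ := exists_isClosed_fiber_point σ Z.hom s w hw
      obtain ⟨U, p, u, hup, het⟩ := @GrothLib.SmoothSection.exists_etale_quasiSection _ _ Z.hom _ s
        ((Z.hom.fiber s).residueField w) _ alg hfd hsep
        ((Z.hom.fiber s).fromSpecResidueField w ≫ Z.hom.fiberι s) hc
      let U' : Over S := Over.mk (p ≫ Z.hom)
      let p' : U' ⟶ Z := Over.homMk p rfl
      have hp : p' ≫ g₁ = p' ≫ g₂ := hN U' het (by
        show (Over.pullback S₀.ι).map _ = (Over.pullback S₀.ι).map _
        rw [Functor.map_comp, Functor.map_comp]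
        exact congrArg _ hg)
      have hp' : p ≫ g₁.left = p ≫ g₂.left := congr($(hp).left)
      obtain ⟨l, hl⟩ := hfac ((Z.hom.fiber s).fromSpecResidueField w ≫ Z.hom.fiberι s)
        (by rw [← hup, Category.assoc, hp', Category.assoc])
      refine ⟨l (IsLocalRing.closedPoint _), ?_⟩
      rw [← Scheme.Hom.comp_apply, hl, Scheme.Hom.comp_apply, Scheme.fromSpecResidueField_apply]
    obtain ⟨y, hy⟩ : x ∈ Set.range e := by
      have h := hall.ge (Set.mem_univ (Z.hom.asFiber x))
      rwa [Set.mem_preimage, Z.hom.fiberι_asFiber] at h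
    exact ⟨y, hy⟩
  have : IsClosedImmersion e := IsClosedImmersion.of_isPreimmersion e (by
    rw [Set.range_eq_univ.mpr hsurj]; exact isClosed_univ)
  have : IsSchemeTheoreticallyDominant S₀.ι := isSchemeTheoreticallyDominant_ι hS₀
  have h0 : pullback.fst Z.hom S₀.ι ≫ g₁.left = pullback.fst Z.hom S₀.ι ≫ g₂.left := by
    have h1 := congrArg (fun q : (Over.pullback S₀.ι).obj Z ⟶ (Over.pullback S₀.ι).obj N => q.left ≫ pullback.fst N.hom S₀.ι) hg
    exact ((pullback.lift_fst _ _ _).symm.trans h1).trans (pullback.lift_fst _ _ _)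
  obtain ⟨l, hl⟩ := hfac _ h0
  have : IsIso e := isIso_of_factor e (pullback.fst Z.hom S₀.ι) l hl
  refine Over.OverMorphism.ext ?_
  exact (cancel_epi e).mp heq

end GrothLib.SchDense
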