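import Groth.Prelude.Def_NonAbH2
import Groth.Prelude.Def_Neron
import Groth.Agent.Lib.SchDense.FlatClosure
import Groth.Agent.Lib.GrpSchField.Neron
import Groth.Agent.Lib.FpqcDesc.ClosedImmersion
import Mathlib

/-!
# Torsors under Néron models
-/

universe u

open CategoryTheory CategoryTheory.Limits AlgebraicGeometry
open MonoidalCategory CartesianMonoidalCategory MonObj

namespace GrothLib.SchDense

/-- A torsor for the fppf topology over an affine base is trivialised by one quasi-compact flat
surjective morphism locally of finite presentation. -/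
theorem exists_qc_section {A : CommRingCat.{u}} (X : Over (Spec A))
    (h : NonAbH1.IsLocallyTrivialFor Scheme.fppfPrecoverage X) :
    ∃ (T : Scheme.{u}) (f : T ⟶ Spec A) (s : T ⟶ X.left),
      Flat f ∧ Surjective f ∧ QuasiCompact f ∧ LocallyOfFinitePresentation f ∧ s ≫ X.hom = f := by
  classical
  obtain ⟨R, hR, hsec⟩ := h
  have hmem : ∀ x : ↥(Spec A), ∃ (W : Scheme.{u}) (w : W ⟶ Spec A), R w ∧ x ∈ Set.range w := fun x => by
    obtain ⟨W, w, hw, hx⟩ := ((Presieve.mem_comap_jointlySurjectivePrecoverage_iff (F := Scheme.forget)).mp hR.1) x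
    exact ⟨W, w, hw, hx⟩
  choose W w hw hwx using hmem
  choose s hs using fun x => hsec (w x) (hw x)
  haveI : ∀ x, Flat (w x) := fun x => (hR.2 (hw x)).1
  haveI : ∀ x, LocallyOfFinitePresentation (w x) := fun x => (hR.2 (hw x)).2
  let f := Sigma.desc w
  let σ := Sigma.desc s
  haveI : Flat f := IsZariskiLocalAtSource.sigmaDesc (P := @Flat) inferInstance
  haveI : LocallyOfFinitePresentation f := IsZariskiLocalAtSource.sigmaDesc (P := @LocallyOfFinitePresentation) inferInstance
  haveI : Surjective f := ⟨fun x => by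
    obtain ⟨z, hz⟩ := hwx x
    exact ⟨Sigma.ι W x z, by rw [← Scheme.Hom.comp_apply, Sigma.ι_desc, hz]⟩⟩
  obtain ⟨(V : (∐ W).Opens), hV, e⟩ := f.isOpenMap.exists_opens_image_eq_of_prespectralSpace
    f.continuous (by simp) isOpen_univ isCompact_univ
  have hσ : σ ≫ X.hom = f := Sigma.hom_ext _ _ fun x => by simp [σ, f, hs]
  refine ⟨V.toScheme, V.ι ≫ f, V.ι ≫ σ, inferInstance,
    ⟨fun x => have ⟨y, hyV, e'⟩ := e.ge (Set.mem_univ x); ⟨⟨y, hyV⟩, e'⟩⟩,
    (quasiCompact_iff_compactSpace _).mpr (isCompact_iff_compactSpace.mp hV), inferInstance,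
    by rw [Category.assoc, hσ]⟩

variable {R : Type u} [CommRing R] [IsDedekindDomain R]

/-- An fppf torsor under a Néron model is a Néron model. -/
theorem isNeronModelOf_torsor (X : Over (Spec (CommRingCat.of R))) [GrpObj X]
    (hX : Neron.IsNeronModelOf R X ((Neron.genericFibre R).obj X) (Iso.refl _))
    (P : NonAbH1.TorsorSch X Scheme.fppfPrecoverage) :
    Neron.IsNeronModelOf R P.X ((Neron.genericFibre R).obj P.X) (Iso.refl _) := by
  obtain ⟨hXsm, hXsep, hXlft, hXqc, hXext⟩ := hX
  obtain ⟨hiso, htriv⟩ := P.isTorsor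
  haveI : IsIso (lift P.act.act (snd X P.X)) := hiso
  let β := inv (lift P.act.act (snd X P.X))
  have hβ2 : β ≫ snd X P.X = snd P.X P.X := by
    rw [IsIso.inv_comp_eq, lift_snd]
  have hβ1 : β ≫ P.act.act = fst P.X P.X := by
    rw [IsIso.inv_comp_eq, lift_fst]
  have hβl : ∀ {Z : Over (Spec (CommRingCat.of R))} (a b : Z ⟶ P.X),
      lift (lift a b ≫ β ≫ fst X P.X) b ≫ P.act.act = a := fun {Z} a b => by
    have : lift (lift a b ≫ β ≫ fst X P.X) b = lift a b ≫ β := by
      apply CartesianMonoidalCategory.hom_ext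
      · rw [lift_fst, Category.assoc]
      · rw [lift_snd, Category.assoc, hβ2, lift_snd]
    rw [this, Category.assoc, hβ1, lift_fst]
  have hβr : ∀ {Z : Over (Spec (CommRingCat.of R))} (x : Z ⟶ X) (b : Z ⟶ P.X),
      lift (lift x b ≫ P.act.act) b ≫ β ≫ fst X P.X = x := fun {Z} x b => by
    have : lift (lift x b ≫ P.act.act) b = lift x b ≫ lift P.act.act (snd X P.X) := by
      apply CartesianMonoidalCategory.hom_ext <;> simp
    rw [this, Category.assoc, IsIso.hom_inv_id_assoc, lift_fst]
  -- geometry of `P`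
  obtain ⟨T, f, s, hf1, hf2, hf3, hf4, hs⟩ := exists_qc_section P.X htriv
  let To : Over (Spec (CommRingCat.of R)) := Over.mk f
  let so : To ⟶ P.X := Over.homMk s hs
  let Aiso : X ⊗ To ≅ P.X ⊗ To :=
    { hom := lift (lift (fst X To) (snd X To ≫ so) ≫ P.act.act) (snd X To)
      inv := lift (lift (fst P.X To) (snd P.X To ≫ so) ≫ β ≫ fst X P.X) (snd P.X To)
      hom_inv_id := by
        apply CartesianMonoidalCategory.hom_ext
        · rw [Category.assoc, lift_fst, Category.id_comp, ← Category.assoc (lift _ _), ← Category.assoc, comp_lift, lift_fst,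
            lift_snd_assoc, Category.assoc, hβr]
        · rw [Category.assoc, lift_snd, lift_snd, Category.id_comp]
      inv_hom_id := by
        apply CartesianMonoidalCategory.hom_ext
        · rw [Category.assoc, lift_fst, Category.id_comp, ← Category.assoc, comp_lift, lift_fst,
            lift_snd_assoc]
          simp only [Category.assoc, hβl]
        · rw [Category.assoc, lift_snd, lift_snd, Category.id_comp] }
  let eT : pullback X.hom f ≅ pullback P.X.hom f := (Over.forget _).mapIso Aiso
  have hw : eT.hom ≫ pullback.snd P.X.hom f = pullback.snd X.hom f :=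
    congrArg Over.Hom.left (show Aiso.hom ≫ snd P.X To = snd X To from lift_snd _ _)
  have hw' : eT.inv ≫ pullback.snd X.hom f = pullback.snd P.X.hom f := by rw [← hw, Iso.inv_hom_id_assoc]
  have hsm' : Smooth (pullback.snd P.X.hom f) := by
    rw [← hw']
    haveI : Smooth (pullback.snd X.hom f) := MorphismProperty.pullback_snd (P := @Smooth) _ _ hXsm
    infer_instance
  haveI hsm : Smooth P.X.hom :=
    MorphismProperty.of_pullback_snd_of_descendsAlong (P := @Smooth) (Q := @Surjective ⊓ @Flat ⊓ @QuasiCompact)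
      ⟨⟨hf2, hf1⟩, hf3⟩ hsm'
  haveI hsep : IsSeparated P.X.hom := by
    have h1 : MorphismProperty.diagonal (@IsClosedImmersion) (pullback.snd P.X.hom f) := by
      haveI : IsSeparated (pullback.snd P.X.hom f) := by
        rw [← hw']
        haveI : IsSeparated (pullback.snd X.hom f) := MorphismProperty.pullback_snd (P := @IsSeparated) _ _ hXsep
        infer_instance
      exact IsSeparated.isClosedImmersion_diagonal
    exact ⟨MorphismProperty.of_pullback_snd_of_descendsAlong (P := MorphismProperty.diagonal (@IsClosedImmersion))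
      (Q := @Surjective ⊓ @Flat ⊓ @QuasiCompact) ⟨⟨hf2, hf1⟩, hf3⟩ h1⟩
  haveI hqc : QuasiCompact P.X.hom := by
    haveI : CompactSpace T := (quasiCompact_iff_compactSpace f).mp hf3
    haveI : QuasiCompact (pullback.snd X.hom f) := MorphismProperty.pullback_snd (P := @QuasiCompact) _ _ hXqc
    haveI : CompactSpace ↥(pullback X.hom f) := QuasiCompact.compactSpace_of_compactSpace (pullback.snd X.hom f)
    haveI : Surjective (pullback.fst P.X.hom f) := MorphismProperty.pullback_fst (P := @Surjective) _ _ hf2
    let p := eT.hom ≫ pullback.fst P.X.hom f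
    haveI : Surjective p := inferInstanceAs (Surjective (eT.hom ≫ pullback.fst P.X.hom f))
    haveI : CompactSpace P.X.left := ⟨by
      rw [← Set.range_eq_univ.mpr p.surjective]
      exact isCompact_range p.continuous⟩
    exact (quasiCompact_iff_compactSpace _).mpr inferInstance
  refine ⟨hsm, hsep, inferInstance, hqc, fun Y hY => ?_⟩
  haveI := hY
  simp only [Iso.refl_hom, Category.comp_id]
  refine (GrothLib.GrpSchField.bijective_pullback_map_iff (Neron.genPt R) Y P.X).mpr fun φ hφ => ?_
  let g := Neron.genPt R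
  haveI : IsSchemeTheoreticallyDominant g := isSchemeTheoreticallyDominant_genPt
  haveI : Flat Y.hom := inferInstance
  let W : Over (Spec (CommRingCat.of R)) := Y ⊗ P.X
  have hWsm : Smooth W.hom := by
    show Smooth (pullback.fst Y.hom P.X.hom ≫ Y.hom)
    haveI : Smooth (pullback.fst Y.hom P.X.hom) := MorphismProperty.pullback_fst (P := @Smooth) _ _ hsm
    infer_instance
  let Q : Over (Spec (CommRingCat.of R)) := Over.mk (pullback.fst W.hom g ≫ W.hom)
  let q : Q ⟶ W := Over.homMk (pullback.fst W.hom g)
  let θ : pullback W.hom g ⟶ pullback Y.hom g :=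
    pullback.lift (pullback.fst W.hom g ≫ (fst Y P.X).left) (pullback.snd W.hom g)
      (by rw [Category.assoc, Over.w, pullback.condition])
  have hθ : θ ≫ pullback.fst Y.hom g = pullback.fst W.hom g ≫ (fst Y P.X).left := pullback.lift_fst _ _ _
  let a : Q ⟶ P.X := Over.homMk (θ ≫ φ) (by
    show (θ ≫ φ) ≫ P.X.hom = pullback.fst W.hom g ≫ W.hom
    rw [Category.assoc, hφ, reassoc_of% hθ, Over.w])
  let gam : Q ⟶ X := lift a (q ≫ snd Y P.X) ≫ β ≫ fst X P.X
  have hUX := (GrothLib.GrpSchField.bijective_pullback_map_iff g W X).mp (by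
    have := hXext W hWsm
    simpa only [Iso.refl_hom, Category.comp_id] using this)
  obtain ⟨Γl, ⟨hΓ1, hΓ2⟩, -⟩ := hUX gam.left (Over.w gam)
  let Γo : W ⟶ X := Over.homMk Γl hΓ1
  have hqΓ : q ≫ Γo = gam := Over.OverMorphism.ext hΓ2
  let G' : W ⟶ P.X := lift Γo (snd Y P.X) ≫ P.act.act
  have hqG : q ≫ G' = a := by
    rw [← Category.assoc, comp_lift, hqΓ]
    exact hβl a (q ≫ snd Y P.X)
  have hqG' : pullback.fst W.hom g ≫ G'.left = θ ≫ φ := congrArg Over.Hom.left hqG
  -- descend along `W ⟶ Y`
  let p : W.left ⟶ Y.left := (fst Y P.X).left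
  haveI : Surjective P.X.hom := ⟨fun x => by
    obtain ⟨t, ht⟩ := hf2.surj x
    exact ⟨s t, by rw [← Scheme.Hom.comp_apply, hs, ht]⟩⟩
  haveI : Surjective p := inferInstanceAs (Surjective (pullback.fst Y.hom P.X.hom))
  haveI : Flat p := inferInstanceAs (Flat (pullback.fst Y.hom P.X.hom))
  haveI : QuasiCompact p := inferInstanceAs (QuasiCompact (pullback.fst Y.hom P.X.hom))
  have hpY : p ≫ Y.hom = W.hom := Over.w (fst Y P.X)
  have hce : pullback.fst p p ≫ G'.left = pullback.snd p p ≫ G'.left := by
    let w := pullback.fst p p ≫ p ≫ Y.hom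
    haveI : Flat w := inferInstanceAs (Flat (pullback.fst p p ≫ p ≫ Y.hom))
    have hw2 : pullback.fst p p ≫ W.hom = pullback.snd p p ≫ W.hom := by
      rw [← hpY, pullback.condition_assoc]
    refine ext_of_schDominant P.X.hom ?_ (pullback.fst w g) ?_
    · rw [Category.assoc, Category.assoc, Over.w, hw2]
    · have key : ∀ (c : pullback p p ⟶ W.left) (hc : c ≫ p = pullback.fst p p ≫ p),
          pullback.fst w g ≫ c ≫ G'.left = pullback.lift (pullback.fst w g ≫ pullback.fst p p ≫ p)
            (pullback.snd w g) (by simp only [Category.assoc]; exact pullback.condition) ≫ φ := by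
        intro c hc
        have hcw : c ≫ W.hom = w := by rw [← hpY, ← Category.assoc, hc, Category.assoc]
        let k : pullback w g ⟶ pullback W.hom g := pullback.lift (pullback.fst w g ≫ c) (pullback.snd w g)
          (by rw [Category.assoc, hcw, pullback.condition])
        have hk1 : k ≫ pullback.fst W.hom g = pullback.fst w g ≫ c := pullback.lift_fst _ _ _
        rw [← Category.assoc, ← hk1, Category.assoc, hqG', ← Category.assoc]
        congr 1
        apply pullback.hom_ext
        · rw [Category.assoc, hθ, reassoc_of% hk1, pullback.lift_fst]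
          exact congrArg (pullback.fst w g ≫ ·) hc
        · simp only [θ, k, Category.assoc, pullback.lift_snd]
          exact (pullback.lift_snd _ _ _).symm
      rw [key _ rfl, key _ pullback.condition.symm]
  let F := EffectiveEpi.desc p G'.left fun g₁ g₂ hg => by
    have e1 : pullback.lift g₁ g₂ hg ≫ pullback.fst p p = g₁ := pullback.lift_fst _ _ _
    have e2 : pullback.lift g₁ g₂ hg ≫ pullback.snd p p = g₂ := pullback.lift_snd _ _ _
    exact (congrArg (· ≫ G'.left) e1.symm).trans ((Category.assoc _ _ _).trans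
      ((congrArg (pullback.lift g₁ g₂ hg ≫ ·) hce).trans
        ((Category.assoc _ _ _).symm.trans (congrArg (· ≫ G'.left) e2))))
  have hF : p ≫ F = G'.left := EffectiveEpi.fac _ _ _
  have hF1 : F ≫ P.X.hom = Y.hom := by rw [← cancel_epi p, reassoc_of% hF, Over.w, hpY]
  have hF2 : pullback.fst Y.hom g ≫ F = φ := by
    let p' : pullback W.hom g ⟶ pullback Y.hom g := θ
    have sq : IsPullback θ (pullback.fst W.hom g) (pullback.fst Y.hom g) p := by
      refine IsPullback.of_right ?_ hθ (IsPullback.of_hasPullback Y.hom g).flip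
      rw [show θ ≫ pullback.snd Y.hom g = pullback.snd W.hom g from pullback.lift_snd _ _ _, hpY]
      exact (IsPullback.of_hasPullback W.hom g).flip
    haveI : Surjective θ := MorphismProperty.of_isPullback (P := @Surjective) sq.flip inferInstance
    haveI : Flat θ := MorphismProperty.of_isPullback (P := @Flat) sq.flip inferInstance
    haveI : QuasiCompact θ := MorphismProperty.of_isPullback (P := @QuasiCompact) sq.flip inferInstance
    rw [← cancel_epi θ, reassoc_of% hθ, hF, hqG']
  exact ⟨F, ⟨hF1, hF2⟩, fun F' hF' => ext_of_schDominant P.X.hom (hF'.1.trans hF1.symm) (pullback.fst Y.hom g)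
    (hF'.2.trans hF2.symm)⟩

end GrothLib.SchDense
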